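import Cfsg.Agent.H759.FusTransportD
import Cfsg.Agent.H781.Transport
import Cfsg.Agent.Prune
set_option linter.all false

section
prune_inst 0x7f00000000000000000000000000000000000000000000000000000000000000000000000000000000000000000000000000000000000000000000000000000000000000000000000000000000000000003fffffffffffffffffffffffffffbeffbdffffffff

-- part: H776/Co/Real
section
set_option linter.all false
open scoped Cfsg.Agent.FastGrp

/-!
Transport of realizability along an injective homomorphism of the ambient groups.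
-/

set_option autoImplicit false
set_option linter.style.longLine false

universe u v

namespace Cfsg.Agent.H776.Co

open Subgroup Cfsg Cfsg.Agent.H759

theorem isRealizable_push {Ω₁ : Type u} {Ω₂ : Type v} [Group Ω₁] [Group Ω₂] {f : Ω₁ →* Ω₂} {hf : Function.Injective f}
    {T₁ : Subgroup Ω₁} {T₂ : Subgroup Ω₂} {X₁ : FusionSystem T₁} {X₂ : FusionSystem T₂} (h : IsPush hf X₁ X₂)
    {p : ℕ} (hr : X₁.IsRealizable p) : X₂.IsRealizable p := by
  obtain ⟨rfl, hom⟩ := h
  obtain ⟨G, _, _, ι, ⟨hι, hm⟩, T, hT⟩ := hr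
  have hinj : Function.Injective (ι.comp (eqv hf T₁).symm.toMonoidHom) := hι.comp (eqv hf T₁).symm.injective
  refine H781.isRealizable_of_isRealizedBy (ι := ι.comp (eqv hf T₁).symm.toMonoidHom) ⟨hinj, ?_⟩ T ?_
  · intro P' hP' φ' hφ'
    obtain ⟨P, rfl⟩ := exists_eq_map (f := f) (hP'.trans (Subgroup.map_le_range f T₁))
    obtain ⟨φ, rfl⟩ := exists_eq_cb hf φ' fun y => Subgroup.map_le_range f T₁ (hφ' y)
    have hP : P ≤ T₁ := (map_le_map hf).1 hP'
    have hφ : ∀ x : P, φ x ∈ T₁ := by
      intro x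
      have := hφ' (eqv hf P x)
      rwa [cb_eqv, map_mem_map hf] at this
    rw [hom, hm P hP φ hφ]
    have h1 : ∀ x : P, (eqv hf T₁).symm ⟨cb hf φ (eqv hf P x), hφ' _⟩ = ⟨φ x, hφ x⟩ := by
      intro x
      rw [MulEquiv.symm_apply_eq]
      exact Subtype.ext (cb_eqv hf φ x)
    have h2 : ∀ x : P, (eqv hf T₁).symm ⟨(eqv hf P x : P.map f), hP' (eqv hf P x).2⟩ = ⟨x, hP x.2⟩ := by
      intro x
      rw [MulEquiv.symm_apply_eq]
      exact Subtype.ext rfl
    constructor
    · rintro ⟨g, hg⟩
      refine ⟨g, fun y => ?_⟩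
      obtain ⟨x, rfl⟩ := (eqv hf P).surjective y
      show ι ((eqv hf T₁).symm _) = g * ι ((eqv hf T₁).symm _) * g⁻¹
      rw [h1, h2]
      exact hg x
    · rintro ⟨g, hg⟩
      refine ⟨g, fun x => ?_⟩
      have h3 : ι ((eqv hf T₁).symm _) = g * ι ((eqv hf T₁).symm _) * g⁻¹ := hg (eqv hf P x)
      rw [h1, h2] at h3
      exact h3
  · rw [hT]
    ext y
    constructor
    · rintro ⟨x, rfl⟩
      exact ⟨eqv hf T₁ x, congrArg ι ((eqv hf T₁).symm_apply_apply x)⟩
    · rintro ⟨x, rfl⟩
      exact ⟨(eqv hf T₁).symm x, rfl⟩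

end Cfsg.Agent.H776.Co
end

-- part: H805/PU/Push
section
set_option linter.all false
open scoped Cfsg.Agent.FastGrp

/-!
# Transport of centric, fully normalized and essential subgroups along an injective homomorphism (helper805)
-/

set_option autoImplicit false

namespace Cfsg.Agent.H805.PU

open Cfsg Cfsg.FusionSystem Cfsg.Agent.H759

section spe

variable {X X' : Type*} [Group X] [Group X'] {p : ℕ}

theorem prankLE_of_equiv (e : X ≃* X') {k : ℕ} (h : PRankLE p k X) : PRankLE p k X' := by
  intro A hA hp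
  have h1 := h (A.comap e.toMonoidHom) ⟨⟨fun x y => Subtype.ext (e.injective (by
      have h3 : e x * e y = e y * e x := congrArg Subtype.val (hA.is_comm.comm ⟨e x, x.2⟩ ⟨e y, y.2⟩)
      show e (x * y) = e (y * x)
      rw [map_mul, map_mul, h3]))⟩⟩ (fun a ha => e.injective (by
      rw [map_pow, map_one]
      exact hp _ ha))
  have h2 : Nat.card ↥(A.comap e.toMonoidHom) = Nat.card A :=
    Nat.card_congr ⟨fun y => ⟨e y.1, y.2⟩, fun y => ⟨e.symm y.1, by
      show e (e.symm y.1) ∈ A
      rw [e.apply_symm_apply]; exact y.2⟩, fun y => Subtype.ext (e.symm_apply_apply _),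
      fun y => Subtype.ext (e.apply_symm_apply _)⟩
  rwa [h2] at h1

/-- Strongly `p`-embedded subgroups are transported by isomorphisms. -/
theorem isStronglyPEmbedded_of_equiv (e : X ≃* X') {Y : Subgroup X} (h : IsStronglyPEmbedded p Y) :
    IsStronglyPEmbedded p (Y.comap e.symm.toMonoidHom) := by
  obtain ⟨h1, h2, P, hP⟩ := h
  refine ⟨?_, ?_, P.comapOfInjective e.symm.toMonoidHom e.symm.injective (by
    rw [MonoidHom.range_eq_top.2 e.symm.surjective]; exact le_top), ?_⟩
  · rwa [← Nat.card_congr e.toEquiv]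
  · intro h3
    apply h2
    rw [eq_top_iff]
    intro x _
    have h4 : e x ∈ Y.comap e.symm.toMonoidHom := by rw [h3]; exact Subgroup.mem_top _
    have h5 : e.symm (e x) ∈ Y := h4
    rwa [e.symm_apply_apply] at h5
  · refine iSup_le ?_
    rintro ⟨Q', hQP, hr⟩
    intro x hx
    show e.symm x ∈ Y
    apply hP
    have hA : Q'.comap e.toMonoidHom ≤ (P : Subgroup X) := by
      intro y hy
      have h3 : e.symm (e y) ∈ (P : Subgroup X) := hQP hy
      rwa [e.symm_apply_apply] at h3
    have hB : ¬ PRankLE p (1 - 1) ↥(Q'.comap e.toMonoidHom) := by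
      intro h3
      apply hr
      refine prankLE_of_equiv ?_ h3
      exact { toFun := fun y => ⟨e y.1, y.2⟩
              invFun := fun y => ⟨e.symm y.1, by
                show e (e.symm y.1) ∈ Q'
                rw [e.apply_symm_apply]; exact y.2⟩
              left_inv := fun y => Subtype.ext (e.symm_apply_apply _)
              right_inv := fun y => Subtype.ext (e.apply_symm_apply _)
              map_mul' := fun a b => Subtype.ext (map_mul e _ _) }
    have hx' : x ∈ Subgroup.normalizer (Q' : Set X') := hx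
    have hC : e.symm x ∈ Subgroup.normalizer ((Q'.comap e.toMonoidHom : Subgroup X) : Set X) := by
      rw [Subgroup.mem_normalizer_iff] at hx' ⊢
      intro y
      show e y ∈ Q' ↔ e (e.symm x * y * (e.symm x)⁻¹) ∈ Q'
      rw [hx' (e y), map_mul, map_mul, map_inv, e.apply_symm_apply]
    exact Subgroup.mem_iSup_of_mem (⟨Q'.comap e.toMonoidHom, hA, hB⟩ :
      {Q : Subgroup X // Q ≤ (P : Subgroup X) ∧ ¬ PRankLE p (1 - 1) Q}) hC

/-- The condition on the outer automorphism group in the definition of an essential subgroup, for isomorphic pairs. -/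
theorem exists_spe_of_equiv {A A' : Type*} [Group A] [Group A'] {N : Subgroup A} {N' : Subgroup A'}
    (e : A ≃* A') (he : N.map e.toMonoidHom = N')
    (h : ∃ _ : N.Normal, ∃ E : Subgroup (A ⧸ N), IsStronglyPEmbedded p E) :
    ∃ _ : N'.Normal, ∃ E : Subgroup (A' ⧸ N'), IsStronglyPEmbedded p E := by
  obtain ⟨hN, E, hE⟩ := h
  have hN' : N'.Normal := by
    rw [← he]
    exact hN.map _ e.surjective
  refine ⟨hN', _, isStronglyPEmbedded_of_equiv (QuotientGroup.congr N N' e he) hE⟩

end spe

section notions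

variable {Ω₁ Ω₂ : Type*} [Group Ω₁] [Group Ω₂] {f : Ω₁ →* Ω₂} {hf : Function.Injective f}
  {T₁ : Subgroup Ω₁} {T₂ : Subgroup Ω₂} {X₁ : FusionSystem T₁} {X₂ : FusionSystem T₂}

theorem isCentric_iff (h : IsPush hf X₁ X₂) {P : Subgroup Ω₁} :
    X₂.IsCentric (P.map f) ↔ X₁.IsCentric P := by
  constructor
  · rintro ⟨h1, h2⟩
    refine ⟨h.map_le_iff.1 h1, fun Q hQ => ?_⟩
    have h3 := h2 (Q.map f) (h.isConj_iff.2 hQ)
    rw [h.carrier, centralizerIn_map hf, map_le_map hf] at h3
    exact h3
  · rintro ⟨h1, h2⟩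
    refine ⟨h.map_le_iff.2 h1, fun Q' hQ' => ?_⟩
    obtain ⟨Q, rfl, -⟩ := h.exists_source (H802.isConj_le_right hQ')
    rw [h.carrier, centralizerIn_map hf, map_le_map hf]
    exact h2 Q (h.isConj_iff.1 hQ')

theorem isFullyNormalized_iff (h : IsPush hf X₁ X₂) {P : Subgroup Ω₁} :
    X₂.IsFullyNormalized (P.map f) ↔ X₁.IsFullyNormalized P := by
  constructor
  · rintro ⟨h1, h2⟩
    refine ⟨h.map_le_iff.1 h1, fun Q hQ => ?_⟩
    have h3 := h2 (Q.map f) (h.isConj_iff.2 hQ)
    rw [h.carrier, normalizerIn_map hf, normalizerIn_map hf, card_map hf, card_map hf] at h3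
    exact h3
  · rintro ⟨h1, h2⟩
    refine ⟨h.map_le_iff.2 h1, fun Q' hQ' => ?_⟩
    obtain ⟨Q, rfl, -⟩ := h.exists_source (H802.isConj_le_right hQ')
    rw [h.carrier, normalizerIn_map hf, normalizerIn_map hf, card_map hf, card_map hf]
    exact h2 Q (h.isConj_iff.1 hQ')

theorem map_inn {G G' : Type*} [Group G] [Group G'] (e : G ≃* G') :
    (MulAut.conj : G →* MulAut G).range.map (MulAut.congr e).toMonoidHom =
      (MulAut.conj : G' →* MulAut G').range := by
  have key : ∀ x : G, MulAut.congr e (MulAut.conj x) = MulAut.conj (e x) := by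
    intro x
    ext y
    show e (x * e.symm y * x⁻¹) = e x * y * (e x)⁻¹
    rw [map_mul, map_mul, map_inv, e.apply_symm_apply]
  ext α
  constructor
  · rintro ⟨_, ⟨x, rfl⟩, rfl⟩
    exact ⟨e x, (key x).symm⟩
  · rintro ⟨y, rfl⟩
    exact ⟨MulAut.conj (e.symm y), ⟨_, rfl⟩, by
      show MulAut.congr e (MulAut.conj (e.symm y)) = _
      rw [key, e.apply_symm_apply]⟩

/-- Isomorphism of the automizers compatible with the inner automorphism groups. -/
theorem exists_autEquiv (h : IsPush hf X₁ X₂) (P : Subgroup Ω₁) :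
    ∃ e : X₁.autGroup P ≃* X₂.autGroup (P.map f),
      ((MulAut.conj : P →* MulAut P).range.subgroupOf (X₁.autGroup P)).map e.toMonoidHom =
        (MulAut.conj : ↥(P.map f) →* MulAut ↥(P.map f)).range.subgroupOf (X₂.autGroup (P.map f)) := by
  have key : ∀ α : X₁.autGroup P, ca hf P α ∈ X₂.autGroup (P.map f) := fun α => h.mem_autGroup_iff.2 α.2
  refine ⟨{ toFun := fun α => ⟨ca hf P α, key α⟩
            invFun := fun β => ⟨(ca hf P).symm β, h.mem_autGroup_iff.1 (by
              rw [MulEquiv.apply_symm_apply]; exact β.2)⟩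
            left_inv := fun α => Subtype.ext ((ca hf P).symm_apply_apply _)
            right_inv := fun β => Subtype.ext ((ca hf P).apply_symm_apply _)
            map_mul' := fun a b => Subtype.ext (map_mul (ca hf P) _ _) }, ?_⟩
  ext β
  rw [Subgroup.mem_subgroupOf, ← map_inn (eqv hf P)]
  constructor
  · rintro ⟨α, hα, rfl⟩
    exact ⟨α, Subgroup.mem_subgroupOf.1 hα, rfl⟩
  · rintro ⟨α, hα, hαβ⟩
    have h1 : ca hf P α = β := hαβ
    refine ⟨⟨α, h.mem_autGroup_iff.1 (by rw [h1]; exact β.2)⟩, Subgroup.mem_subgroupOf.2 hα, Subtype.ext h1⟩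

theorem isEssential_iff (h : IsPush hf X₁ X₂) {p : ℕ} {P : Subgroup Ω₁} :
    X₂.IsEssential p (P.map f) ↔ X₁.IsEssential p P := by
  obtain ⟨e, he⟩ := exists_autEquiv h P
  have he' : ((MulAut.conj : ↥(P.map f) →* MulAut ↥(P.map f)).range.subgroupOf (X₂.autGroup (P.map f))).map
      e.symm.toMonoidHom = (MulAut.conj : P →* MulAut P).range.subgroupOf (X₁.autGroup P) := by
    rw [← he, Subgroup.map_map]
    have : e.symm.toMonoidHom.comp e.toMonoidHom = MonoidHom.id _ := by
      ext x
      simp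
    rw [this, Subgroup.map_id]
  unfold FusionSystem.IsEssential
  rw [isCentric_iff h, isFullyNormalized_iff h]
  refine and_congr_right fun _ => and_congr_right fun _ => ⟨fun h1 => ?_, fun h1 => ?_⟩
  · exact exists_spe_of_equiv e.symm he' h1
  · exact exists_spe_of_equiv e he h1

end notions

end Cfsg.Agent.H805.PU
end
end
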