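import Cfsg.Agent.H775.PU.Bound_m3
import Cfsg.Agent.H805.PU.Push
import Cfsg.Agent.H802.FusEss
import Cfsg.Agent.H973.FusNormEss
import Cfsg.Agent.H771.ModelUnique
import Cfsg.Agent.FastGrp
import Cfsg.Agent.Prune
set_option linter.all false

section
prune_inst 0x7f00000000000000000000000000000000000000000000000000000000000000000000000000000000000000000000000000000000000000000000000000000000000000000000000000000000000000003fffffffffffffffffffffffffffbeffbdffffffff

-- part: H805/PU/Main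
section
set_option linter.all false
open scoped Cfsg.Agent.FastGrp

/-!
# S5258 engine: (G11) transport, (G12) twisting, (G13) the complement (helper805)
-/

set_option autoImplicit false

namespace Cfsg.Agent.H805.PU

open Cfsg Cfsg.FusionSystem Cfsg.Agent.H759 Cfsg.Agent.H756.PU

universe u

/-- (G11) -/
theorem stTrans : StTrans.{u} := by
  intro Ω _ S _ p _ F G0 _ e hF
  let f : G0 →* Ω := S.subtype.comp e.symm.toMonoidHom
  have hf : Function.Injective f := (Subgroup.subtype_injective S).comp e.symm.injective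
  have hS : S = (⊤ : Subgroup G0).map f := by
    ext x
    constructor
    · intro hx
      refine ⟨e ⟨x, hx⟩, Subgroup.mem_top _, ?_⟩
      show ((e.symm (e ⟨x, hx⟩) : S) : Ω) = x
      rw [e.symm_apply_apply]
    · rintro ⟨y, -, rfl⟩
      exact (e.symm y).2
  have : Finite G0 := Finite.of_equiv _ e.toEquiv
  obtain ⟨F', hF'⟩ := exists_pull' (hf := hf) hS F
  exact ⟨F', hF'.isSaturated_iff.1 hF, H776.Co.isRealizable_push hF'⟩

/-- the automizer of the whole group and its image, transported by an automorphism of the group -/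
theorem AF_push {G0 : Type*} [Group G0] {θ : MulAut G0} {F F' : FusionSystem (⊤ : Subgroup G0)}
    {hθ : Function.Injective θ.toMonoidHom} (h : IsPush hθ F' F) :
    AF F = (AF F').map (MulAut.conj θ).toMonoidHom := by
  have htop : (⊤ : Subgroup G0).map θ.toMonoidHom = ⊤ :=
    Subgroup.map_top_of_surjective _ θ.surjective
  have key : ∀ (P : Subgroup G0) (hP : P = ⊤) (α : MulAut P) (β : MulAut G0),
      (∀ x : P, ((α x : P) : G0) = β x) → (α ∈ F.autGroup P ↔ β ∈ AF F) := by
    intro P hP α β hαβ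
    subst hP
    have h1 : MulAut.congr Subgroup.topEquiv α = β := by
      ext x
      exact hαβ ⟨x, Subgroup.mem_top x⟩
    rw [← h1]
    constructor
    · intro h2; exact ⟨α, h2, rfl⟩
    · rintro ⟨γ, h2, h3⟩
      rwa [← (MulAut.congr Subgroup.topEquiv).injective h3]
  have key' : ∀ (α : MulAut (⊤ : Subgroup G0)),
      α ∈ F'.autGroup ⊤ ↔ MulAut.congr Subgroup.topEquiv α ∈ AF F' := by
    intro α
    constructor
    · intro h2; exact ⟨α, h2, rfl⟩
    · rintro ⟨γ, h2, h3⟩
      rwa [← (MulAut.congr Subgroup.topEquiv).injective h3]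
  have main : ∀ α : MulAut (⊤ : Subgroup G0), α ∈ F'.autGroup ⊤ ↔
      MulAut.conj θ (MulAut.congr Subgroup.topEquiv α) ∈ AF F := by
    intro α
    rw [← h.mem_autGroup_iff]
    apply key _ htop
    intro y
    obtain ⟨x, rfl⟩ := (eqv hθ ⊤).surjective y
    rw [coe_ca_apply]
    show θ (α x : (⊤ : Subgroup G0)) = (θ * MulAut.congr Subgroup.topEquiv α * θ⁻¹) (θ x)
    rw [MulAut.mul_apply, MulAut.mul_apply, MulAut.inv_apply_self]
    rfl
  ext γ
  constructor
  · intro hγ
    refine ⟨MulAut.conj θ⁻¹ γ, ?_, ?_⟩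
    · have h1 := main ((MulAut.congr Subgroup.topEquiv).symm (MulAut.conj θ⁻¹ γ))
      rw [MulEquiv.apply_symm_apply] at h1
      have h2 : MulAut.conj θ (MulAut.conj θ⁻¹ γ) = γ := by
        simp only [MulAut.conj_apply, mul_assoc, _root_.map_inv, _root_.MulAut.inv_apply, _root_.MulAut.conj_symm_apply, _root_.mul_inv_cancel_left, _root_.mul_inv_cancel, _root_.mul_one]
      rw [h2] at h1
      have h3 := (key' _).1 (h1.2 hγ)
      rwa [MulEquiv.apply_symm_apply] at h3
    · show MulAut.conj θ (MulAut.conj θ⁻¹ γ) = γ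
      simp only [MulAut.conj_apply, mul_assoc, _root_.map_inv, _root_.MulAut.inv_apply, _root_.MulAut.conj_symm_apply, _root_.mul_inv_cancel_left, _root_.mul_inv_cancel, _root_.mul_one]
  · rintro ⟨β, ⟨α, hα, rfl⟩, rfl⟩
    exact (main α).1 hα

/-- (G12) -/
theorem stTwist : StTwist.{u} := by
  intro G0 _ _ p _ F θ hF
  have hinj : Function.Injective (θ⁻¹ : MulAut G0).toMonoidHom := (θ⁻¹ : MulAut G0).injective
  have htop : (⊤ : Subgroup G0) = (⊤ : Subgroup G0).map (θ⁻¹ : MulAut G0).toMonoidHom :=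
    (Subgroup.map_top_of_surjective _ (θ⁻¹ : MulAut G0).surjective).symm
  obtain ⟨F', hF'⟩ := exists_pull' (hf := hinj) htop F
  refine ⟨F', hF'.isSaturated_iff.1 hF, H776.Co.isRealizable_push hF', ?_, fun E => ?_⟩
  · rw [AF_push hF', Subgroup.map_map]
    have : (MulAut.conj θ).toMonoidHom.comp (MulAut.conj θ⁻¹).toMonoidHom = MonoidHom.id _ := by
      ext x
      simp only [MulAut.conj_apply, mul_assoc, _root_.MulEquiv.toMonoidHom_eq_coe, _root_.map_inv, _root_.MonoidHom.coe_comp, _root_.MonoidHom.coe_coe, _root_.MulAut.coe_inv, _root_.Function.comp_apply, _root_.MulAut.conj_symm_apply, _root_.mul_inv_cancel_left, _root_.mul_inv_cancel, _root_.mul_one, _root_.MonoidHom.id_apply]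
    rw [this, Subgroup.map_id]
  · rw [← isEssential_iff hF', Subgroup.map_map]
    have : (θ⁻¹ : MulAut G0).toMonoidHom.comp θ.toMonoidHom = MonoidHom.id _ := by
      ext x
      show θ⁻¹ (θ x) = x
      exact MulAut.inv_apply_self _ _ _
    rw [this, Subgroup.map_id]

/-- (G13) -/
theorem stCompl : StCompl.{u} := by
  intro G0 _ _ p _ F hG hF
  obtain ⟨Q, ⟨φ, hφ, hr⟩, ⟨-, R, hR⟩, -⟩ := hF ⊤ le_rfl
  have hQ : Q = ⊤ := by
    rw [← hr]
    have h1 : Function.Injective φ := F.injective_of_mem hφ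
    have h2 : Nat.card φ.range = Nat.card (⊤ : Subgroup G0) :=
      (Nat.card_congr (Equiv.ofInjective φ h1)).symm
    exact Subgroup.eq_top_of_card_eq _ (by rw [h2]; exact Nat.card_congr Subgroup.topEquiv.toEquiv)
  subst hQ
  have hinn : autInducedBy (⊤ : Subgroup G0) ⊤ = (MulAut.conj : (⊤ : Subgroup G0) →* MulAut (⊤ : Subgroup G0)).range := by
    ext α
    rw [H802.mem_autInducedBy_iff]
    constructor
    · rintro ⟨g, -, hg⟩
      refine ⟨⟨g, Subgroup.mem_top g⟩, ?_⟩
      ext x
      exact (hg x).symm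
    · rintro ⟨g, rfl⟩
      exact ⟨g, Subgroup.mem_top _, fun x => rfl⟩
  have hfin : Finite (MulAut (⊤ : Subgroup G0)) := finite_mulAut
  have hn : ((R : Subgroup (F.autGroup ⊤))).Normal := by
    rw [hR, hinn]
    have : ((MulAut.conj : (⊤ : Subgroup G0) →* MulAut (⊤ : Subgroup G0)).range).Normal := by
      constructor
      rintro _ ⟨g, rfl⟩ α
      refine ⟨α g, ?_⟩
      ext x
      simp only [MulAut.conj_apply, _root_.Subgroup.coe_mul, _root_.InvMemClass.coe_inv, _root_.MulAut.mul_apply, _root_.MulAut.inv_apply, _root_.map_mul, _root_.MulEquiv.apply_symm_apply, _root_.map_inv]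
    exact this.subgroupOf _
  obtain ⟨D, hD⟩ := Subgroup.exists_right_complement'_of_coprime (N := (R : Subgroup (F.autGroup ⊤)))
    R.card_coprime_index
  let ν : MulAut (⊤ : Subgroup G0) →* MulAut G0 := (MulAut.congr Subgroup.topEquiv).toMonoidHom
  have hνinj : Function.Injective ν := (MulAut.congr Subgroup.topEquiv).injective
  refine ⟨(D.map (F.autGroup ⊤).subtype).map ν, ?_, ?_⟩
  · rw [Nat.card_congr ((Subgroup.equivMapOfInjective _ ν hνinj).symm.toEquiv),
      Nat.card_congr ((Subgroup.equivMapOfInjective _ _ (Subgroup.subtype_injective _)).symm.toEquiv)]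
    have h1 : Nat.card D = (R : Subgroup (F.autGroup ⊤)).index := hD.symm.index_eq_card.symm
    rw [h1]
    exact (Nat.Prime.coprime_iff_not_dvd Fact.out).2 R.not_dvd_index |>.symm
  · have h2 : (R : Subgroup (F.autGroup ⊤)).map (F.autGroup ⊤).subtype =
        (MulAut.conj : (⊤ : Subgroup G0) →* MulAut (⊤ : Subgroup G0)).range := by
      rw [hR, hinn, Subgroup.map_subgroupOf_eq_of_le]
      rw [← hinn]
      exact H802.autInducedBy_le_autGroup F le_rfl
    have h3 : ((R : Subgroup (F.autGroup ⊤)) ⊔ D) = ⊤ := hD.sup_eq_top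
    have h4 : (MulAut.conj : G0 →* MulAut G0).range =
        (MulAut.conj : (⊤ : Subgroup G0) →* MulAut (⊤ : Subgroup G0)).range.map ν :=
      (map_inn Subgroup.topEquiv).symm
    rw [h4, ← h2, ← Subgroup.map_sup, ← Subgroup.map_sup, h3]
    show _ = (F.autGroup ⊤).map ν
    congr 1
    rw [← MonoidHom.range_eq_map, Subgroup.range_subtype]

end Cfsg.Agent.H805.PU
end

-- part: H245/PU/Ess
section
set_option linter.all false
open scoped Cfsg.Agent.FastGrp

/-!
# S5258, PU-G0: an essential subgroup gives the structure `Ess` (helper245)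
-/

set_option autoImplicit false

namespace Cfsg.Agent.H245.PU

open Cfsg Cfsg.FusionSystem Cfsg.Agent.H802 Cfsg.Agent.H756.PU

universe u

theorem stEss : StEss.{u} := by
  intro Ω _ S _ p _ F Q hS hF hQ
  obtain ⟨hQc, hQn, hnormal, E, hE⟩ := hQ
  have hQS := hQn.1
  have hfinQ : Finite Q := finite_of_le hQS
  have hp : p.Prime := Fact.out
  have hC : centralizerIn S Q ≤ Q := hQc.2 Q (isConj_refl F hQS)
  set A := F.autGroup Q with hA
  obtain ⟨R, hR⟩ : ∃ R : Sylow p A, (R : Subgroup A) = (autInducedBy S Q).subgroupOf A :=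
    (isFullyAutomized_of_isFullyNormalized hS hF hQn).2
  have hindu : autInducedBy S Q ≤ A := autInducedBy_le_autGroup F hQS
  have hfA : Finite (MulAut Q) := inferInstance
  refine
    { pp := hp
      fin := inferInstance
      pgr := hS
      E_le := hQS
      cent := fun x hx h => hC ⟨hx, Subgroup.mem_centralizer_iff.2 fun e he => (h e he).symm⟩
      indu := hindu
      syl := ?_
      spe := ?_ }
  · intro P hP hPp
    have hP' : IsPGroup p (P.subgroupOf A) := hPp.comap_of_injective A.subtype A.subtype_injective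
    obtain ⟨T, hT⟩ := hP'.exists_le_sylow
    obtain ⟨g, hg⟩ := MulAction.exists_smul_eq A T R
    refine ⟨g, g.2, fun x hx => ?_⟩
    have h1 : g * (⟨x, hP hx⟩ : A) * g⁻¹ ∈ (R : Subgroup A) := by
      rw [← hg, Sylow.coe_subgroup_smul]
      exact ⟨⟨x, hP hx⟩, hT hx, rfl⟩
    rw [hR] at h1
    exact h1
  · set I := (Inn Q).subgroupOf A with hI
    set π : A →* A ⧸ I := QuotientGroup.mk' I with hπ
    have hπs : Function.Surjective π := QuotientGroup.mk'_surjective I
    have hker : ∀ a : A, π a = 1 ↔ (a : MulAut Q) ∈ Inn Q := by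
      intro a
      rw [hπ, QuotientGroup.mk'_apply, QuotientGroup.eq_one_iff, hI, Subgroup.mem_subgroupOf]
    set P : Sylow p (A ⧸ I) := R.mapSurjective hπs with hP
    obtain ⟨hdvd, htop, P₀, hP₀⟩ := hE
    have hP₀E : (P₀ : Subgroup (A ⧸ I)) ≤ E := EvenType.StrongP.sylow_le hdvd hP₀
    have hN₀ := EvenType.StrongP.normIn_of_core hdvd hP₀
    obtain ⟨b, hb⟩ := MulAction.exists_smul_eq (A ⧸ I) P₀ P
    set E₁ := E.map (MulAut.conj b).toMonoidHom with hE₁
    have hN₁ : EvenType.StrongP.NormIn p E₁ := hN₀.conj b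
    have hPE : (P : Subgroup (A ⧸ I)) ≤ E₁ := by
      rw [← hb, Sylow.coe_subgroup_smul]
      rintro _ ⟨x, hx, rfl⟩
      exact ⟨x, hP₀E hx, rfl⟩
    have hE₁top : E₁ ≠ ⊤ := by
      intro h
      apply htop
      rw [eq_top_iff]
      intro y _
      have h1 : b * y * b⁻¹ ∈ E₁ := by rw [h]; exact Subgroup.mem_top _
      rw [hE₁, EvenType.StrongP.mem_map_conj] at h1
      have e : b⁻¹ * (b * y * b⁻¹) * b = y := by group
      rwa [e] at h1
    have hmem : ∀ (a : MulAut Q) (ha : a ∈ A), a ∈ (E₁.comap π).map A.subtype ↔ π ⟨a, ha⟩ ∈ E₁ := by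
      intro a ha
      constructor
      · rintro ⟨a', ha', rfl⟩
        exact ha'
      · intro h
        exact ⟨⟨a, ha⟩, h, rfl⟩
    refine ⟨(E₁.comap π).map A.subtype, ?_, ?_, ?_, ?_, ?_⟩
    · rintro _ ⟨a, -, rfl⟩
      exact a.2
    · intro h
      apply hE₁top
      rw [eq_top_iff]
      intro y _
      obtain ⟨a, rfl⟩ := hπs y
      exact (hmem a a.2).1 (by rw [h]; exact a.2)
    · intro γ hγ
      rw [hmem γ (hindu hγ)]
      apply hPE
      have : π ⟨γ, hindu hγ⟩ ∈ (R : Subgroup A).map π := ⟨⟨γ, hindu hγ⟩, by rw [hR]; exact hγ, rfl⟩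
      exact this
    · intro h
      have hPb : (P : Subgroup (A ⧸ I)) = ⊥ := by
        rw [eq_bot_iff]
        intro y hy
        obtain ⟨a, ha, rfl⟩ : y ∈ (R : Subgroup A).map π := hy
        rw [hR] at ha
        rw [Subgroup.mem_bot, hker]
        exact h ha
      have h1 := P.not_dvd_index
      rw [hPb, Subgroup.index_bot] at h1
      exact h1 hdvd
    · intro g hg hgH x hx hgx hk
      obtain ⟨k, hk⟩ := hk
      have hxA : x ∈ A := by
        obtain ⟨a, -, rfl⟩ := hx
        exact a.2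
      have hgxA : g * x * g⁻¹ ∈ A := A.mul_mem (A.mul_mem hg hxA) (A.inv_mem hg)
      rw [hmem x hxA] at hx
      rw [hmem _ hgxA] at hgx
      rw [hmem g hg] at hgH
      have hgg : π ⟨g * x * g⁻¹, hgxA⟩ = π ⟨g, hg⟩ * π ⟨x, hxA⟩ * (π ⟨g, hg⟩)⁻¹ := by
        rw [← map_inv, ← map_mul, ← map_mul]
        rfl
      by_contra hxI
      have hx1 : π ⟨g * x * g⁻¹, hgxA⟩ ≠ 1 := by
        rw [hgg, Ne, mul_inv_eq_one, mul_eq_left, hker]
        exact hxI
      apply hN₁.inter hgH
      have hxm : π ⟨g * x * g⁻¹, hgxA⟩ ∈ E₁ ⊓ E₁.map (MulAut.conj (π ⟨g, hg⟩)).toMonoidHom :=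
        ⟨hgx, π ⟨x, hxA⟩, hx, hgg.symm⟩
      have hk' : π ⟨g * x * g⁻¹, hgxA⟩ ^ p ^ k = 1 := by
        rw [← map_pow]
        have e : (⟨g * x * g⁻¹, hgxA⟩ : A) ^ p ^ k = 1 := by
          apply Subtype.ext
          show (g * x * g⁻¹) ^ p ^ k = 1
          rw [conj_pow, hk, mul_one, mul_inv_cancel]
        rw [e, map_one]
      have hord : p ∣ orderOf (π ⟨g * x * g⁻¹, hgxA⟩) := by
        have h1 := orderOf_dvd_of_pow_eq_one hk'
        obtain ⟨m, -, hm⟩ := (Nat.dvd_prime_pow hp).1 h1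
        rw [hm]
        refine dvd_pow_self p ?_
        rintro rfl
        rw [pow_zero] at hm
        exact hx1 (orderOf_eq_one_iff.1 hm)
      refine hord.trans ?_
      have h2 : orderOf (⟨_, hxm⟩ : ↥(E₁ ⊓ E₁.map (MulAut.conj (π ⟨g, hg⟩)).toMonoidHom)) =
          orderOf (π ⟨g * x * g⁻¹, hgxA⟩) := Subgroup.orderOf_mk _ _
      rw [← h2]
      exact orderOf_dvd_natCard _

end Cfsg.Agent.H245.PU
end

-- part: H546/PU/Constr
section
set_option linter.all false
open scoped Cfsg.Agent.FastGrp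

/-!
# PU-G7, G8, G9 (S5258): constrained systems, TI automizers, comparison of systems
-/

set_option autoImplicit false

namespace Cfsg.Agent.H546.PU

open Cfsg Cfsg.FusionSystem Cfsg.Agent.H756.PU Cfsg.Agent.H802

universe u

section

variable {Ω : Type u} [Group Ω] {S : Subgroup Ω}

/-- A subgroup normal in `S` is fully normalized. -/
theorem isFullyNormalized_of_le [Finite S] (F : FusionSystem S) {Q : Subgroup Ω} (hQS : Q ≤ S)
    (hN : S ≤ Subgroup.normalizer (Q : Set Ω)) : F.IsFullyNormalized Q := by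
  refine ⟨hQS, fun R _ => ?_⟩
  have h1 : normalizerIn S Q = S := inf_eq_left.2 hN
  rw [h1]
  exact Subgroup.card_le_of_le inf_le_left

/-- A subgroup normal in `S` and containing its centralizer in `S` is centric. -/
theorem isCentric_of_le [Finite S] {p : ℕ} [Fact p.Prime] {F : FusionSystem S} {Q : Subgroup Ω}
    (hS : IsPGroup p S) (hF : F.IsSaturated p) (hQS : Q ≤ S)
    (hN : S ≤ Subgroup.normalizer (Q : Set Ω)) (hC : centralizerIn S Q ≤ Q) : F.IsCentric Q :=
  isCentric_of_isFullyCentralized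
    (isFullyCentralized_of_isFullyNormalized hS hF (isFullyNormalized_of_le F hQS hN)) hC

end

/-- (G7) -/
theorem stCon : StCon.{u} := by
  intro Ω _ S _ p _ F Q hS hF hQS hN hC hess hinv
  have hcen := isCentric_of_le hS hF hQS hN hC
  have hnor : F.IsNormal Q := by
    rw [Cfsg.Agent.H973.isNormal_iff_essential hS hF Q]
    rintro P (rfl | hP)
    · refine ⟨hQS, fun α hα => ?_⟩
      have hfin : Finite P := ‹_›
      refine Subgroup.eq_of_le_of_card_ge ?_ ?_
      · rintro _ ⟨x, hx, rfl⟩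
        exact Subgroup.mem_subgroupOf.2 (hinv.2 α hα x (Subgroup.mem_subgroupOf.1 hx))
      · exact (Subgroup.card_map_of_injective α.injective).ge
    · have hPQ := hess P hP
      subst hPQ
      refine ⟨le_rfl, fun α _ => ?_⟩
      rw [Subgroup.subgroupOf_self, ← MonoidHom.range_eq_map]
      exact MonoidHom.range_eq_top.2 α.surjective
  obtain ⟨L, hL, ι, ⟨hfin, hreal, hsyl, -⟩, -, -⟩ :=
    Cfsg.Agent.H771.exists_model hS hF hnor hcen
  exact ⟨L, hL, hfin, ι, hreal, hsyl⟩

/-- (G8) -/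
theorem stTIEss : StTIEss.{u} := by
  intro Ω _ S _ p _ F Q hS hF hQS hne hN hC hTI hnot
  have hcen := isCentric_of_le hS hF hQS hN hC
  have hfn := isFullyNormalized_of_le F hQS hN
  have hfQ : Finite Q := finite_of_le hQS
  -- the normalizer of `Aut_S(Q)`
  refine isEssential_of_not_le hS hF hfn hcen hne
    (Subgroup.normalizer ((autInducedBy S Q : Subgroup (MulAut Q)) : Set (MulAut Q))) ?_ ?_
  · rintro α hα ⟨R, hQR, hcard, ψ, hψ, hψα⟩
    have hRS : R ≤ S := hom_le hψ
    obtain ⟨r, hr, hrQ⟩ : ∃ r ∈ R, r ∉ Q := by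
      by_contra hcon
      push Not at hcon
      have : R = Q := le_antisymm hcon hQR
      rw [this] at hcard
      exact lt_irrefl _ hcard
    have hrS := hRS hr
    obtain ⟨β, hβ⟩ := exists_conjAut (hN hrS)
    have hβS : β ∈ autInducedBy S Q := conj_mem_autInducedBy hrS hβ
    have hβI : β ∉ Inn Q := fun h => hrQ (mem_of_conj_mem_inn hQS hC hrS hβ h)
    have hconj : α * β * α⁻¹ ∈ autInducedBy S Q := by
      refine conj_mem_autInducedBy (hom_apply_mem hψ ⟨r, hr⟩) (fun x => ?_)
      -- x = α y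
      obtain ⟨y, rfl⟩ := α.surjective x
      have h1 : (α * β * α⁻¹) (α y) = α (β y) := by
        rw [MulAut.mul_apply, MulAut.mul_apply, MulAut.inv_apply_self]
      rw [h1, ← hψα y, ← hψα (β y)]
      have h2 : (⟨((β y : Q) : Ω), hQR (β y).2⟩ : R) = ⟨r, hr⟩ * ⟨y, hQR y.2⟩ * ⟨r, hr⟩⁻¹ :=
        Subtype.ext (hβ y)
      rw [h2, map_mul, map_mul, map_inv]
    have hNA := hTI α hα β hβS hβI hconj
    -- `α` normalizes `Aut_S(Q)`
    have hfA : Finite (autInducedBy S Q) := inferInstance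
    rw [Subgroup.mem_normalizer_iff]
    have hle : (autInducedBy S Q).map (MulAut.conj α).toMonoidHom ≤ autInducedBy S Q := by
      rintro _ ⟨x, hx, rfl⟩
      exact hNA x hx
    have heq : (autInducedBy S Q).map (MulAut.conj α).toMonoidHom = autInducedBy S Q := by
      refine Subgroup.eq_of_le_of_card_ge hle ?_
      exact (Subgroup.card_map_of_injective (MulAut.conj α).injective).ge
    intro x
    refine ⟨fun hx => hNA x hx, fun hx => ?_⟩
    rw [← heq] at hx
    obtain ⟨y, hy, hyx⟩ := hx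
    have : y = x := (MulAut.conj α).injective hyx
    rwa [← this]
  · intro hle
    apply hnot
    intro γ hγ x hx
    exact (Subgroup.mem_normalizer_iff.1 (hle hγ) x).1 hx

/-- (G9) -/
theorem stSame : StSame.{u} := by
  have key : ∀ {Ω : Type u} [Group Ω] {S : Subgroup Ω} [Finite S] {p : ℕ} [Fact p.Prime]
      (F F' : FusionSystem S) (Q1 Q2 : Subgroup Ω), IsPGroup p S → F.IsSaturated p →
      (∀ E, F.IsEssential p E → E = Q1 ∨ E = Q2) →
      F.autGroup S = F'.autGroup S → F.autGroup Q1 = F'.autGroup Q1 →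
      F.autGroup Q2 = F'.autGroup Q2 → ∀ P, F.Hom P ⊆ F'.Hom P := by
    intro Ω _ S _ p _ F F' Q1 Q2 hS hF hess h0 h1 h2 P
    refine le_of_essential hS hF F' h0.le (fun Q hQ _ => ?_) P
    rcases hess Q hQ with rfl | rfl
    · exact h1.le
    · exact h2.le
  intro Ω _ S _ p _ F F' Q1 Q2 hS hF hF' _ _ hess hess' h0 h1 h2 P
  exact Set.Subset.antisymm (key F F' Q1 Q2 hS hF hess h0 h1 h2 P)
    (key F' F Q1 Q2 hS hF' hess' h0.symm h1.symm h2.symm P)

end Cfsg.Agent.H546.PU
end
end
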